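import Cfsg.Agent.Lib.Classical.Quad.Omega

/-!
Calculus with Siegel transformations: the vectors `x` whose full line of transformations at `u` lies in a
subgroup, and a criterion for a subgroup to contain all of them.
-/

set_option autoImplicit false
set_option linter.unusedSectionVars false

namespace CfsgLib.OrthTwoGen

open QuadraticMap Module
open CfsgLib.Classical.Quad

variable {F V : Type*} [Field F] [AddCommGroup V] [Module F V] {Q : QuadraticForm F V}

/-- The Siegel transformation at `u` with parameter `x` lies in `H`. -/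
def Mem (H : Subgroup (Orth Q)) (u x : V) : Prop :=
  ∀ (hu : Q u = 0) (hx : polar Q u x = 0), siegel Q u x hu hx ∈ H

theorem polar_apply_eq_zero (g : Orth Q) {u x : V} (h : polar Q (g.1 u) (g.1 x) = 0) :
    polar Q u x = 0 := by rwa [orth_polar] at h

variable {H : Subgroup (Orth Q)}

theorem Mem.map {g : Orth Q} (hg : g ∈ H) {u x : V} (h : Mem H u x) : Mem H (g.1 u) (g.1 x) := by
  intro hu hx
  rw [orth_Q] at hu
  have hx' := polar_apply_eq_zero g hx
  have := mul_mem (mul_mem hg (h hu hx')) (inv_mem hg)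
  rwa [siegel_conj] at this

theorem Mem.add {u x y : V} (h : Mem H u x) (h' : Mem H u y) (hux : polar Q u x = 0)
    (huy : polar Q u y = 0) : Mem H u (x + y) := by
  intro hu hx
  have := mul_mem (h hu hux) (h' hu huy)
  rwa [siegel_mul] at this

theorem Mem.sub {u x y : V} (h : Mem H u x) (h' : Mem H u y) (hux : polar Q u x = 0)
    (huy : polar Q u y = 0) : Mem H u (x - y) := by
  intro hu hx
  have := mul_mem (h hu hux) (inv_mem (h' hu huy))
  rw [siegel_inv, siegel_mul] at this
  exact (siegel_congr _ _ hu hx rfl (sub_eq_add_neg _ _).symm) ▸ this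

theorem mem_zero (u : V) : Mem H u 0 := fun hu _ => by rw [siegel_zero]; exact one_mem H

theorem Mem.smul_left {u x : V} {c : F} (h : Mem H u (c • x)) (hc : c ≠ 0) : Mem H (c • u) x := by
  intro hu hx
  have hu' : Q u = 0 := by simpa [QuadraticMap.map_smul, hc] using hu
  have hx' : polar Q u x = 0 := by simpa [polar_smul_left, hc] using hx
  rw [siegel_smul_left c hu' hx']
  exact h hu' (by simp [hx'])

/-- A Siegel transformation with two singular vectors can be read from either side. -/
theorem Mem.symm {u x : V} (h : Mem H u x) (hu : Q u = 0) (hux : polar Q u x = 0) :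
    Mem H x (-u) := by
  intro hx _
  have e : siegel Q u x hu hux = siegel Q x (-u) hx (by rw [polar_neg_right, polar_comm, hux, neg_zero]) := by
    refine orth_ext fun y => ?_
    simp only [siegel_apply, polar_neg_right, QuadraticMap.map_neg, hu, hx, zero_mul, sub_zero, neg_neg]
    module
  exact e ▸ h hu hux

/-- The vectors whose whole line lies in `H`. -/
def lineSpace (H : Subgroup (Orth Q)) (u : V) : Submodule F V where
  carrier := {x | polar Q u x = 0 ∧ ∀ c : F, Mem H u (c • x)}
  zero_mem' := ⟨polar_zero_right _ _, fun c => by rw [smul_zero]; exact mem_zero u⟩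
  add_mem' {x y} hx hy := ⟨by rw [polar_add_right, hx.1, hy.1, add_zero], fun c => by
    rw [smul_add]
    exact (hx.2 c).add (hy.2 c) (by simp [hx.1]) (by simp [hy.1])⟩
  smul_mem' a x hx := ⟨by simp [hx.1], fun c => by rw [smul_smul]; exact hx.2 _⟩

theorem mem_lineSpace {u x : V} :
    x ∈ lineSpace H u ↔ polar Q u x = 0 ∧ ∀ c : F, Mem H u (c • x) := Iff.rfl

theorem Mem.of_lineSpace {u x : V} (h : x ∈ lineSpace H u) : Mem H u x := by
  simpa using h.2 1

theorem self_mem_lineSpace {u : V} (hu : Q u = 0) : u ∈ lineSpace H u := by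
  refine ⟨polar_singular_self hu, fun c hu' hx => ?_⟩
  have h := siegel_add_smul c hu (w := 0) (polar_zero_right _ _)
  rw [siegel_zero] at h
  rw [siegel_congr hu' hx hu (by simp [polar_singular_self hu]) rfl (zero_add (c • u)).symm, h]
  exact one_mem H

theorem lineSpace_map {g : Orth Q} (hg : g ∈ H) {u x : V} (h : x ∈ lineSpace H u) :
    g.1 x ∈ lineSpace H (g.1 u) :=
  ⟨by rw [orth_polar, h.1], fun c => by rw [← map_smul]; exact (h.2 c).map hg⟩

theorem lineSpace_smul {u x : V} {c : F} (hc : c ≠ 0) (h : x ∈ lineSpace H u) :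
    x ∈ lineSpace H (c • u) :=
  ⟨by simp [h.1], fun a => Mem.smul_left (by rw [smul_smul]; exact h.2 _) hc⟩

theorem lineSpace_symm {u x : V} (hu : Q u = 0) (hx : Q x = 0) (h : x ∈ lineSpace H u) :
    u ∈ lineSpace H x := by
  refine ⟨by rw [polar_comm]; exact h.1, fun c => ?_⟩
  by_cases hc : c = 0
  · rw [hc, zero_smul]; exact mem_zero x
  · intro hx' hp
    have h1 := ((h.2 (-c)).symm hu (by simp [h.1])) (by simp [QuadraticMap.map_smul, hx])
      (by simp [polar_comm Q x u, h.1])
    rw [siegel_smul_left (-c) hx (by simp [polar_comm Q x u, h.1])] at h1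
    rwa [siegel_congr hx' hp hx (by simp [polar_comm Q x u, h.1]) rfl
      (show c • u = (-c) • -u by module)]

/-- The commutator of two Siegel transformations. -/
theorem lineSpace_of_comm {u u' x z : V} (hx : x ∈ lineSpace H u) (hz : z ∈ lineSpace H u')
    (hu : Q u = 0) (huu' : polar Q u u' = 0) (hxu' : polar Q u' x = 0) (hzu : polar Q u z = 0)
    (hzx : polar Q z x ≠ 0) : u ∈ lineSpace H u' := by
  refine ⟨by rw [polar_comm]; exact huu', fun c => ?_⟩
  obtain ⟨a, ha⟩ : ∃ a, a = -c / polar Q z x := ⟨_, rfl⟩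
  have h1 := (Mem.of_lineSpace hz).map (hx.2 a hu (by simp [hx.1]))
  rw [siegel_fix hu _ (by rw [polar_comm]; exact huu') (by simp [hxu']), siegel_apply,
    polar_comm Q z u, hzu, zero_smul, add_zero, mul_zero, sub_zero, polar_smul_right, smul_eq_mul,
    ha, div_mul_cancel₀ _ hzx, neg_neg] at h1
  have h2 := h1.sub (Mem.of_lineSpace hz)
    (by rw [polar_add_right, hz.1, polar_smul_right, polar_comm, huu', smul_zero, add_zero]) hz.1
  rwa [add_sub_cancel_left] at h2

/-- Moving a singular parameter by a transformation at its partner. -/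
theorem lineSpace_trans {u x p y : V} (hx : x ∈ lineSpace H u) (hy : Mem H p y) (hp : Q p = 0)
    (hQy : Q y = 0) (hpy : polar Q p y = 0) (hxp : polar Q x p = 1) (hxy : polar Q x y = 0)
    (hup : polar Q u p = 0) (huy : polar Q u y = 0) : y ∈ lineSpace H u := by
  have h1 := lineSpace_map (hy hp hpy) hx
  rw [siegel_fix hp hpy hup huy, siegel_apply, hxp, hxy, hQy] at h1
  simp only [one_smul, neg_zero, zero_mul, sub_zero, zero_smul, add_zero] at h1
  simpa using Submodule.sub_mem _ h1 hx

/-- The two opposite groups of Siegel transformations generate everything. -/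
theorem siegelGroup_le (hnd : NDPolar Q) [FiniteDimensional F V] {e f : V} (he : IsHPair Q e f)
    (hr : ∃ a, polar Q e a = 0 ∧ polar Q f a = 0 ∧ Q a ≠ 0)
    (h₁ : ∀ x, polar Q e x = 0 → x ∈ lineSpace H e) (h₂ : ∀ x, polar Q f x = 0 → x ∈ lineSpace H f) :
    siegelGroup Q ≤ H := by
  obtain ⟨P, hP⟩ : ∃ P : Set V, P = {u | ∃ (g : Orth Q) (c : F), g ∈ H ∧ g.1 (c • e) = u} := ⟨_, rfl⟩
  have hE : ∀ g ∈ H, ∀ u ∈ P, g.1 u ∈ P := by
    intro g hg u hu
    rw [hP] at hu ⊢
    obtain ⟨k, c, hk, rfl⟩ := hu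
    exact ⟨g * k, c, mul_mem hg hk, rfl⟩
  have hsmul : ∀ (c : F) u, u ∈ P → c • u ∈ P := by
    intro c u hu
    rw [hP] at hu ⊢
    obtain ⟨k, d, hk, rfl⟩ := hu
    exact ⟨k, c * d, hk, by rw [← map_smul, smul_smul]⟩
  have heP : e ∈ P := by rw [hP]; exact ⟨1, 1, one_mem H, by simp⟩
  -- vectors not orthogonal to one member of a pair whose partner is in the orbit
  have step : ∀ e' f', IsHPair Q e' f' → e' ∈ P → (∀ x, polar Q f' x = 0 → x ∈ lineSpace H f') →
      ∀ u, Q u = 0 → polar Q u f' ≠ 0 → u ∈ P := by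
    intro e' f' hp hp' hall u hu hne
    obtain ⟨c, hc⟩ : ∃ c, c = polar Q u f' := ⟨_, rfl⟩
    have h1 : Q ((c⁻¹) • u) = 0 := by simp [QuadraticMap.map_smul, hu]
    have h2 : polar Q f' ((c⁻¹) • u) = 1 := by
      rw [polar_smul_right, polar_comm, ← hc, smul_eq_mul, inv_mul_cancel₀ (hc ▸ hne)]
    obtain ⟨y, hy, hgy⟩ := exists_siegel_partner (z := e') hp.2.1 hp.1 h1
      (by rw [polar_comm]; exact hp.2.2) h2
    have := hsmul c _ (hE _ ((Mem.of_lineSpace (hall y hy)) hp.2.1 hy) _ hp')
    rwa [hgy, smul_inv_smul₀ (hc ▸ hne)] at this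
  have hf1 := step e f he heP h₂
  have hfP : f ∈ P := by
    obtain ⟨a, ha₁, ha₂, ha⟩ := hr
    have h := (Mem.of_lineSpace (h₁ a ha₁)) he.1 ha₁
    have h' := hE _ (inv_mem h) _ (hf1 ((siegel Q e a he.1 ha₁).1 f) (by rw [orth_Q, he.2.1]) ?_)
    · rwa [inv_apply_self] at h'
    · simp [siegel_apply, polar_comm Q f e, he.2.2, ha₂, polar_comm Q a f,
        polar_singular_self he.2.1, ha]
  have hall : ∀ u, Q u = 0 → u ∈ P := by
    intro u hu
    by_cases huf : polar Q u f = 0
    swap
    · exact hf1 u hu huf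
    by_cases hue : polar Q u e = 0
    swap
    · exact step f e ⟨he.2.1, he.1, by rw [polar_comm]; exact he.2.2⟩ hfP h₁ u hu hue
    by_cases hu0 : u = 0
    · rw [hu0, ← zero_smul F e]; exact hsmul 0 _ heP
    obtain ⟨x, hx1, hx2⟩ := exists_polar_pair hnd (u := e) (w := u)
      (not_smul_eq_of_indep hu0 fun c hc => by
        have := congrArg (fun z => polar Q z f) hc
        rw [polar_smul_left, huf, he.2.2, smul_zero] at this
        exact zero_ne_one this) 0 1
    have h := (Mem.of_lineSpace (h₁ x hx1)) he.1 hx1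
    have h' := hE _ (inv_mem h) _ (hf1 ((siegel Q e x he.1 hx1).1 u) (by rw [orth_Q, hu]) ?_)
    · rwa [inv_apply_self] at h'
    · simp [siegel_apply, hue, huf, hx2, he.2.2]
  refine (Subgroup.closure_le _).2 ?_
  rintro _ ⟨u, w, hu, hw, rfl⟩
  have huP := hall u hu
  rw [hP] at huP
  obtain ⟨g, c, hg, rfl⟩ := huP
  have hw' : polar Q (c • e) ((g⁻¹).1 w) = 0 := by
    rw [← orth_polar g, self_apply_inv]; exact hw
  have h3 : Mem H (c • e) ((g⁻¹).1 w) := by
    by_cases hc : c = 0
    · intro hu' hx'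
      have : siegel Q (c • e) ((g⁻¹).1 w) hu' hx' = 1 := orth_ext fun y => by simp [siegel_apply, hc]
      rw [this]; exact one_mem H
    · exact Mem.smul_left ((h₁ _ (by simpa [hc] using hw')).2 c) hc
  have h4 := h3.map hg
  rw [self_apply_inv] at h4
  exact h4 hu hw

end CfsgLib.OrthTwoGen
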