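import Cfsg.Agent.Lib.OrthTwoGen.Main

/-!
The two generators of `Ω(Q)`.
-/

set_option autoImplicit false
set_option linter.unusedSectionVars false

namespace CfsgLib.OrthTwoGen

open QuadraticMap Module
open CfsgLib.Classical.Quad

namespace Setup

variable {F V : Type*} [Field F] [AddCommGroup V] [Module F V] {Q : QuadraticForm F V} (S : Setup Q)

/-- The hyperbolic vectors and `w`, `w'`, as a set. -/
def basisSet : Set V := {y | ∃ i < S.n, y = S.e i ∨ y = S.f i} ∪ {S.w, S.w'}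

/-- Acting by scalars on every vector of `basisSet`. -/
def IsDiag (g : Orth Q) : Prop := ∀ b ∈ S.basisSet, ∃ t : F, g.1 b = t • b

theorem IsDiag.comm {g h : Orth Q} (hg : S.IsDiag g) (hh : S.IsDiag h) : g * h = h * g := by
  have key : ∀ b ∈ S.basisSet, (g * h).1 b = (h * g).1 b := by
    intro b hb
    obtain ⟨s, hs⟩ := hg b hb
    obtain ⟨t, ht⟩ := hh b hb
    simp [hs, ht, smul_smul, mul_comm]
  exact S.eq_of_agree _ _ (fun i hi => key _ (Or.inl ⟨i, hi, Or.inl rfl⟩))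
    (fun i hi => key _ (Or.inl ⟨i, hi, Or.inr rfl⟩)) (key _ (Or.inr (Or.inl rfl)))
    (key _ (Or.inr (Or.inr rfl)))

theorem IsDiag.conj {g N : Orth Q} (hN : S.IsCox N) (hg : S.IsDiag g) : S.IsDiag (N * g * N⁻¹) := by
  have hn := S.two_le
  -- every basis vector has a basis preimage up to a scalar
  have pre : ∀ b ∈ S.basisSet, ∃ b' ∈ S.basisSet, ∃ s : F, (N⁻¹).1 b = s • b' := by
    have back : ∀ (b b' : V) (s : F), s ≠ 0 → b' ∈ S.basisSet → N.1 b' = s • b →
        ∃ b'' ∈ S.basisSet, ∃ t : F, (N⁻¹).1 b = t • b'' := by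
      intro b b' s hs hb' h
      refine ⟨b', hb', s⁻¹, ?_⟩
      conv_rhs => rw [← inv_apply_self N b', h, map_smul, inv_smul_smul₀ hs]
    obtain ⟨c, hc, hce, hcf⟩ := hN.wrap
    rintro b (⟨i, hi, hb⟩ | rfl | rfl)
    · rcases i with _ | i <;> rcases hb with rfl | rfl
      · exact back _ _ c⁻¹ (inv_ne_zero hc) (Or.inl ⟨S.n - 1, by omega, Or.inr rfl⟩) hcf
      · exact back _ _ c hc (Or.inl ⟨S.n - 1, by omega, Or.inl rfl⟩) hce
      · exact back _ _ 1 one_ne_zero (Or.inl ⟨i, by omega, Or.inl rfl⟩) (by rw [one_smul, hN.step_e i hi])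
      · exact back _ _ 1 one_ne_zero (Or.inl ⟨i, by omega, Or.inr rfl⟩) (by rw [one_smul, hN.step_f i hi])
    · exact back _ _ 1 one_ne_zero (Or.inr (Or.inr rfl)) (by rw [one_smul, hN.hw'])
    · exact back _ _ 1 one_ne_zero (Or.inr (Or.inl rfl)) (by rw [one_smul, hN.hw])
  intro b hb
  obtain ⟨b', hb', s, hs⟩ := pre b hb
  obtain ⟨t, ht⟩ := hg b' hb'
  refine ⟨t, ?_⟩
  show N.1 (g.1 ((N⁻¹).1 b)) = t • b
  conv_rhs => rw [← self_apply_inv N b]
  rw [hs, map_smul g.1, ht, ← map_smul N.1, smul_comm]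

/-- The torus element `diag(k, k⁻¹)` on the first and last pairs. -/
theorem exists_torus {k : F} (hk : k ≠ 0) :
    ∃ τ ∈ siegelGroup Q, τ.1 (S.e 0) = k • S.e 0 ∧ τ.1 (S.e (S.n - 1)) = k⁻¹ • S.e (S.n - 1) ∧
      τ.1 (S.f (S.n - 1)) = k • S.f (S.n - 1) ∧ τ.1 S.w = S.w ∧ τ.1 S.w' = S.w' ∧ S.IsDiag τ := by
  have hn := S.two_le
  have h0 : 0 < S.n := by omega
  have hl : S.n - 1 < S.n := by omega
  obtain ⟨P, hP, pe, pe', pf, pf', pfix⟩ :=
    S.exists_transposition h0 hl (by omega) (neg_ne_zero.2 hk)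
  obtain ⟨P₁, hP₁, qe, qe', qf, qf', qfix⟩ :=
    S.exists_transposition h0 hl (by omega) (one_ne_zero (α := F))
  have hfix : ∀ x, polar Q x (S.e 0) = 0 → polar Q x (S.e (S.n - 1)) = 0 → polar Q x (S.f 0) = 0 →
      polar Q x (S.f (S.n - 1)) = 0 → (P * P₁).1 x = x := fun x a b c d => by
    rw [CfsgLib.Classical.Quad.mul_apply, qfix x a b c d, pfix x a b c d]
  have he0 : (P * P₁).1 (S.e 0) = k • S.e 0 := by simp [qe, pe']
  have hel : (P * P₁).1 (S.e (S.n - 1)) = k⁻¹ • S.e (S.n - 1) := by simp [qe', pe, inv_neg]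
  have hf0 : (P * P₁).1 (S.f 0) = k⁻¹ • S.f 0 := by simp [qf, pf', inv_neg]
  have hfl : (P * P₁).1 (S.f (S.n - 1)) = k • S.f (S.n - 1) := by simp [qf', pf]
  have hw : (P * P₁).1 S.w = S.w := hfix _ (by rw [polar_comm]; exact S.ew 0 h0)
    (by rw [polar_comm]; exact S.ew _ hl) (by rw [polar_comm]; exact S.fw 0 h0)
    (by rw [polar_comm]; exact S.fw _ hl)
  have hw' : (P * P₁).1 S.w' = S.w' := hfix _ (by rw [polar_comm]; exact S.ew' h0)
    (by rw [polar_comm]; exact S.ew' hl) (by rw [polar_comm]; exact S.fw' h0)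
    (by rw [polar_comm]; exact S.fw' hl)
  refine ⟨P * P₁, mul_mem hP hP₁, he0, hel, hfl, hw, hw', ?_⟩
  rintro b (⟨i, hi, hb⟩ | rfl | rfl)
  · by_cases hi0 : i = 0
    · subst hi0
      rcases hb with rfl | rfl
      exacts [⟨k, he0⟩, ⟨k⁻¹, hf0⟩]
    by_cases hil : i = S.n - 1
    · subst hil
      rcases hb with rfl | rfl
      exacts [⟨k⁻¹, hel⟩, ⟨k, hfl⟩]
    rcases hb with rfl | rfl
    · exact ⟨1, by rw [one_smul, hfix _ (S.ee _ hi _ h0 hi0) (S.ee _ hi _ hl hil) (S.ef _ hi _ h0 hi0)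
        (S.ef _ hi _ hl hil)]⟩
    · exact ⟨1, by rw [one_smul, hfix _ (S.polar_fe' hi h0 hi0) (S.polar_fe' hi hl hil) (S.ff _ hi _ h0 hi0)
        (S.ff _ hi _ hl hil)]⟩
  · exact ⟨1, by rw [one_smul, hw]⟩
  · exact ⟨1, by rw [one_smul, hw']⟩

theorem siegel_pow {u x : V} (hu : Q u = 0) (hx : polar Q u x = 0) (m : ℕ) :
    siegel Q u x hu hx ^ m = siegel Q u ((m : F) • x) hu (by simp [hx]) := by
  induction m with
  | zero =>
    rw [pow_zero, siegel_congr hu _ hu (polar_zero_right _ _) rfl (by simp : ((0 : ℕ) : F) • x = 0),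
      siegel_zero]
  | succ m ih =>
    rw [pow_succ, ih, siegel_mul]
    exact siegel_congr _ _ _ _ rfl (by rw [Nat.cast_succ, add_smul, one_smul])

variable [Fintype F] [FiniteDimensional F V]

include S

theorem exists_two_generators_large (hnd : NDPolar Q) (hq : Fintype.card F ≠ 2) :
    ∃ a b : Orth Q, a ∈ siegelGroup Q ∧ b ∈ siegelGroup Q ∧
      ∀ H : Subgroup (Orth Q), a ∈ H → b ∈ H → siegelGroup Q ≤ H := by
  have hn := S.two_le
  have h0 : 0 < S.n := by omega
  have hl : S.n - 1 < S.n := by omega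
  obtain ⟨k, hk⟩ := IsCyclic.exists_generator (α := Fˣ)
  have hk1 : (k : F) ≠ 1 := by
    intro h
    have hk' : k = 1 := Units.ext h
    refine hq ?_
    have hsub : Subsingleton Fˣ := ⟨fun u v => by
      have hu := hk u
      have hv := hk v
      rw [hk', Subgroup.zpowers_one_eq_bot, Subgroup.mem_bot] at hu hv
      rw [hu, hv]⟩
    have h1 : Nat.card Fˣ = 1 := Nat.card_unique
    rw [Nat.card_units, Nat.card_eq_fintype_card] at h1
    omega
  obtain ⟨N, hN, hcox⟩ := S.exists_cox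
  obtain ⟨τ, hτ, τe, τl, τf, τw, τw', hdiag⟩ := S.exists_torus k.ne_zero
  obtain ⟨X, hX⟩ : ∃ X : F → Orth Q, ∀ c, X c = siegel Q (S.e 0) (c • S.w) (S.sing_e 0 h0)
      (by simp [S.ew 0 h0]) := ⟨_, fun _ => rfl⟩
  obtain ⟨L, hL⟩ : ∃ L, L = siegel Q (S.e 0) (S.e (S.n - 1)) (S.sing_e 0 h0)
      (S.ee 0 h0 _ hl (by omega)) := ⟨_, rfl⟩
  refine ⟨τ * L, X 1 * N, mul_mem hτ (hL ▸ siegel_mem _ _), mul_mem (hX 1 ▸ siegel_mem _ _) hN,
    fun H ha hb => ?_⟩
  have hconj : ∀ (g : Orth Q) (s c : F), g.1 (S.e 0) = s • S.e 0 → g.1 S.w = S.w →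
      g * X c * g⁻¹ = X (s * c) := by
    intro g s c he hw
    rw [hX, hX, siegel_conj]
    rw [siegel_congr _ _ (u' := s • S.e 0) (w' := c • S.w) (by simp [QuadraticMap.map_smul, S.sing_e 0 h0])
      (by simp [S.ew 0 h0]) he (by rw [map_smul, hw]), siegel_smul_left s (S.sing_e 0 h0) (by simp [S.ew 0 h0])]
    exact siegel_congr _ _ _ _ rfl (smul_smul s c _)
  have hXmul : ∀ c d, X c * X d = X (c + d) := fun c d => by
    rw [hX, hX, hX, siegel_mul]; exact siegel_congr _ _ _ _ rfl (add_smul c d _).symm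
  have hXinv : ∀ c, (X c)⁻¹ = X (-c) := fun c => by
    rw [hX, hX, siegel_inv]; exact siegel_congr _ _ _ _ rfl (neg_smul c _).symm
  -- separate the first generator
  have hτL : Commute τ L := by
    rw [Commute, SemiconjBy, ← mul_inv_eq_iff_eq_mul, hL, siegel_conj]
    rw [siegel_congr _ _ (u' := (k : F) • S.e 0) (w' := (k : F)⁻¹ • S.e (S.n - 1))
      (by simp [QuadraticMap.map_smul, S.sing_e 0 h0]) (by simp [S.ee 0 h0 _ hl (by omega)]) τe τl,
      siegel_smul_left (k : F) (S.sing_e 0 h0) (by simp [S.ee 0 h0 _ hl (by omega)])]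
    exact siegel_congr _ _ _ _ rfl (smul_inv_smul₀ k.ne_zero _)
  have hτe' : ∀ m : ℕ, (τ ^ m).1 (S.e 0) = (k : F) ^ m • S.e 0 := by
    intro m
    induction m with
    | zero => simp
    | succ m ih => rw [pow_succ', CfsgLib.Classical.Quad.mul_apply, ih, map_smul, τe, smul_smul, pow_succ]
  have hdiagpow : ∀ m : ℕ, ∀ (b : V) (t : F), τ.1 b = t • b → (τ ^ m).1 b = t ^ m • b := by
    intro m b t hb
    induction m with
    | zero => simp
    | succ m ih => rw [pow_succ', CfsgLib.Classical.Quad.mul_apply, ih, map_smul, hb, smul_smul, pow_succ]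
  have hτpow : τ ^ (Fintype.card F - 1) = 1 := by
    have key : ∀ b ∈ S.basisSet, (τ ^ (Fintype.card F - 1)).1 b = b := by
      intro b hb
      obtain ⟨t, ht⟩ := hdiag b hb
      rw [hdiagpow _ b t ht]
      by_cases ht0 : t = 0
      · have : b = 0 := by simpa [ht0] using congrArg (τ⁻¹).1 ht
        simp [this]
      · rw [FiniteField.pow_card_sub_one_eq_one t ht0, one_smul]
    exact S.eq_of_agree _ _ (fun i hi => key _ (Or.inl ⟨i, hi, Or.inl rfl⟩))
      (fun i hi => key _ (Or.inl ⟨i, hi, Or.inr rfl⟩)) (key _ (Or.inr (Or.inl rfl)))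
      (key _ (Or.inr (Or.inr rfl)))
  have hLH : L ∈ H := by
    have h1 := pow_mem ha (Fintype.card F - 1)
    rw [hτL.mul_pow, hτpow, one_mul, hL, siegel_pow, Nat.cast_sub Fintype.card_pos, Nat.cast_one,
      FiniteField.cast_card_eq_zero, zero_sub] at h1
    have h2 := inv_mem h1
    rw [siegel_inv] at h2
    rw [hL]
    rwa [siegel_congr _ _ (S.sing_e 0 h0) (S.ee 0 h0 _ hl (by omega)) rfl
      (by simp : -((-1 : F) • S.e (S.n - 1)) = S.e (S.n - 1))] at h2
  have hτH : τ ∈ H := by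
    have := mul_mem ha (inv_mem hLH)
    rwa [mul_inv_cancel_right] at this
  -- conjugate of the torus by the Coxeter element
  obtain ⟨τ', hτ'⟩ : ∃ τ', τ' = N * τ * N⁻¹ := ⟨_, rfl⟩
  obtain ⟨c, hc, hce, hcf⟩ := hcox.wrap
  have τ'e : τ'.1 (S.e 0) = (k : F) • S.e 0 := by
    have : S.e 0 = N.1 (c • S.f (S.n - 1)) := by rw [map_smul, hcf, smul_inv_smul₀ hc]
    rw [this, hτ', CfsgLib.Classical.Quad.mul_apply, CfsgLib.Classical.Quad.mul_apply, inv_apply_self,
      map_smul, τf, ← map_smul N.1, smul_comm]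
  have τ'w : τ'.1 S.w = S.w := by
    rw [← hcox.hw', hτ', CfsgLib.Classical.Quad.mul_apply, CfsgLib.Classical.Quad.mul_apply,
      inv_apply_self, τw']
  have hcomm : τ * τ' = τ' * τ := IsDiag.comm S hdiag (hτ' ▸ IsDiag.conj S hcox hdiag)
  have hz : X (1 - (k : F)) * τ' ∈ H := by
    have e : X (1 - (k : F)) * τ' = X 1 * N * τ * (X 1 * N)⁻¹ := by
      calc X (1 - (k : F)) * τ' = X 1 * (X (-(k : F)) * τ') := by rw [← mul_assoc, hXmul, sub_eq_add_neg]
        _ = X 1 * (τ' * X (-1) * τ'⁻¹ * τ') := by rw [hconj τ' k (-1) τ'e τ'w, mul_neg_one]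
        _ = X 1 * N * τ * (X 1 * N)⁻¹ := by rw [mul_inv_rev, hXinv, hτ']; group
    rw [e]
    exact mul_mem (mul_mem hb hτH) (inv_mem hb)
  obtain ⟨c₀, hc₀⟩ : ∃ c₀, c₀ = (k : F) * (1 - (k : F)) + -(1 - (k : F)) := ⟨_, rfl⟩
  have hc₀ne : c₀ ≠ 0 := by
    rw [hc₀, show (k : F) * (1 - k) + -(1 - k) = -((1 - k) * (1 - k)) by ring, neg_ne_zero]
    exact mul_ne_zero (sub_ne_zero.2 (Ne.symm hk1)) (sub_ne_zero.2 (Ne.symm hk1))
  have hXc : X c₀ ∈ H := by
    have e : X c₀ = τ * (X (1 - (k : F)) * τ') * τ⁻¹ * (X (1 - (k : F)) * τ')⁻¹ := by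
      calc X c₀ = X ((k : F) * (1 - k)) * (X (1 - (k : F)))⁻¹ := by rw [hXinv, hXmul, hc₀]
        _ = τ * X (1 - (k : F)) * (τ⁻¹ * (τ' * τ) * τ⁻¹) * τ'⁻¹ * (X (1 - (k : F)))⁻¹ := by
          rw [← hconj τ k _ τe τw]; group
        _ = τ * X (1 - (k : F)) * (τ⁻¹ * (τ * τ') * τ⁻¹) * τ'⁻¹ * (X (1 - (k : F)))⁻¹ := by rw [hcomm]
        _ = _ := by group
    rw [e]
    exact mul_mem (mul_mem (mul_mem hτH hz) (inv_mem hτH)) (inv_mem hz)
  have hfull : ∀ t, X t ∈ H := by
    intro t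
    by_cases ht : t = 0
    · have h1 : X t = X c₀ * (X c₀)⁻¹ := by rw [ht, hXinv, hXmul, add_neg_cancel]
      rw [h1]; exact mul_mem hXc (inv_mem hXc)
    · obtain ⟨j, hj⟩ := mem_powers_iff_mem_zpowers.2 (hk (Units.mk0 (t / c₀) (div_ne_zero ht hc₀ne)))
      have h1 : X t = τ ^ j * X c₀ * (τ ^ j)⁻¹ := by
        rw [hconj (τ ^ j) ((k : F) ^ j) c₀ (hτe' j) (by simpa using hdiagpow j _ 1 (by simpa using τw))]
        congr 1
        have := congrArg Units.val hj
        rw [Units.val_pow_eq_pow_val, Units.val_mk0] at this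
        rw [this, div_mul_cancel₀ _ hc₀ne]
      rw [h1]
      exact mul_mem (mul_mem (pow_mem hτH j) hXc) (inv_mem (pow_mem hτH j))
  have hNH : N ∈ H := by
    have := mul_mem (inv_mem (hfull 1)) hb
    rwa [inv_mul_cancel_left] at this
  exact siegelGroup_le_of_seed hnd hcox hNH
    ⟨S.ew 0 h0, fun t _ _ => hX t ▸ hfull t⟩ fun _ _ => hL ▸ hLH

theorem exists_two_generators_two (hnd : NDPolar Q) (hq : Fintype.card F = 2) (h3 : 3 ≤ S.n) :
    ∃ a b : Orth Q, a ∈ siegelGroup Q ∧ b ∈ siegelGroup Q ∧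
      ∀ H : Subgroup (Orth Q), a ∈ H → b ∈ H → siegelGroup Q ≤ H := by
  have h2 : (2 : F) = 0 := by
    have := FiniteField.cast_card_eq_zero F
    rw [hq] at this
    exact_mod_cast this
  haveI : CharP F 2 := CharTwo.of_one_ne_zero_of_two_eq_zero one_ne_zero h2
  have h01 : ∀ t : F, t = 0 ∨ t = 1 := fun t => by
    by_cases ht : t = 0
    · exact Or.inl ht
    · have := FiniteField.pow_card_sub_one_eq_one t ht
      rw [hq, pow_one] at this
      exact Or.inr this
  have h0 : 0 < S.n := by omega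
  have h1 : 1 < S.n := by omega
  have hl : S.n - 1 < S.n := by omega
  obtain ⟨N, hN, hcox⟩ := S.exists_cox
  have hB : polar Q S.w S.w' = 1 :=
    (h01 _).resolve_left (S.hB.resolve_right fun h => h.1 h2)
  have hB' : polar Q S.w' S.w = 1 := by rw [polar_comm]; exact hB
  have hww : polar Q S.w S.w = 0 := by rw [polar_self', h2, zero_mul]
  have hw'w' : polar Q S.w' S.w' = 0 := by rw [S.polar_w'_w', hww]
  obtain ⟨q, hq'⟩ : ∃ q, q = Q S.w := ⟨_, rfl⟩
  have hqq : q * q = q := by rcases h01 q with h | h <;> simp [h]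
  obtain ⟨x, hx⟩ : ∃ x, x = S.w' + q • S.w := ⟨_, rfl⟩
  have hQx : Q x = q := by
    rw [hx, QuadraticMap.map_add Q, QuadraticMap.map_smul, S.Q_w', ← hq', smul_eq_mul,
      polar_smul_right, hB', smul_eq_mul, mul_one, hqq, hqq]
    linear_combination q * h2
  have hfx : polar Q (S.f 1) x = 0 := by simp [hx, S.fw 1 h1, S.fw' h1]
  have hex : polar Q (S.e 1) x = 0 := by simp [hx, S.ew 1 h1, S.ew' h1]
  obtain ⟨σ, hσ⟩ : ∃ σ, σ = siegel Q (S.e 1) S.w (S.sing_e 1 h1) (S.ew 1 h1) *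
      siegel Q (S.f 1) x (S.sing_f 1 h1) hfx := ⟨_, rfl⟩
  have σe : σ.1 (S.e 1) = q • S.e 1 + S.w' + q • S.f 1 := by
    rw [hσ, CfsgLib.Classical.Quad.mul_apply, siegel_apply (S.sing_f 1 h1), S.pair 1 h1, hex, hQx,
      one_smul, hx]
    simp only [siegel_apply, polar_add_left, polar_smul_left, smul_eq_mul, S.polar_e_self h1, S.ew 1 h1,
      S.polar_fe h1, S.fw 1 h1, hww, hB', polar_comm Q S.w (S.e 1), polar_comm Q S.w' (S.e 1), S.ew' h1,
      ← hq']
    match_scalars <;> grobner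
  have σf : σ.1 (S.f 1) = S.f 1 + S.w + q • S.e 1 := by
    rw [hσ, CfsgLib.Classical.Quad.mul_apply, siegel_fix (S.sing_f 1 h1) hfx (S.polar_f_self h1) hfx,
      siegel_apply, S.polar_fe h1, S.fw 1 h1, ← hq']
    match_scalars <;> grobner
  have σw : σ.1 S.w = S.f 1 + q • S.e 1 := by
    have hwx : polar Q S.w x = 1 := by simp [hx, hB, hww]
    rw [hσ, CfsgLib.Classical.Quad.mul_apply, siegel_apply (S.sing_f 1 h1), hwx,
      polar_comm Q S.w (S.f 1), S.fw 1 h1]
    simp only [siegel_apply, polar_add_left, polar_smul_left, smul_eq_mul, S.polar_fe h1, S.fw 1 h1,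
      hww, polar_comm Q S.w (S.e 1), S.ew 1 h1, zero_smul, mul_zero, polar_zero_left, ← hq']
    match_scalars <;> grobner
  have σw' : σ.1 S.w' = (1 + q) • S.e 1 + q • S.f 1 + S.w' + q • S.w := by
    have hwx : polar Q S.w' x = q := by simp [hx, hB', hw'w']
    rw [hσ, CfsgLib.Classical.Quad.mul_apply, siegel_apply (S.sing_f 1 h1), hwx,
      polar_comm Q S.w' (S.f 1), S.fw' h1]
    simp only [siegel_apply, polar_add_left, polar_smul_left, smul_eq_mul, S.polar_fe h1, S.fw 1 h1,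
      hB', polar_comm Q S.w' (S.e 1), S.ew' h1, zero_smul, mul_zero, polar_zero_left, ← hq']
    match_scalars <;> grobner
  have σfix : ∀ y, polar Q y (S.e 1) = 0 → polar Q y (S.f 1) = 0 → polar Q y S.w = 0 →
      polar Q y x = 0 → σ.1 y = y := fun y a b c d => by
    rw [hσ, CfsgLib.Classical.Quad.mul_apply, siegel_fix _ _ b d, siegel_fix _ _ a c]
  have σother : ∀ i < S.n, i ≠ 1 → σ.1 (S.e i) = S.e i ∧ σ.1 (S.f i) = S.f i := fun i hi h =>
    ⟨σfix _ (S.ee _ hi _ h1 h) (S.ef _ hi _ h1 h) (S.ew i hi) (by simp [hx, S.ew i hi, S.ew' hi]),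
      σfix _ (S.polar_fe' hi h1 h) (S.ff _ hi _ h1 h) (S.fw i hi) (by simp [hx, S.fw i hi, S.fw' hi])⟩
  have σ15 : σ ^ 15 = 1 := by
    have key : ∀ m : ℕ, (σ ^ m).1 (S.e 1) = S.e 1 → (σ ^ m).1 (S.f 1) = S.f 1 → (σ ^ m).1 S.w = S.w →
        (σ ^ m).1 S.w' = S.w' → σ ^ m = 1 := by
      intro m a b c d
      have hoth : ∀ (j : ℕ), ∀ i < S.n, i ≠ 1 →
          (σ ^ j).1 (S.e i) = S.e i ∧ (σ ^ j).1 (S.f i) = S.f i := by
        intro j i hi h
        induction j with
        | zero => simp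
        | succ j ih => rw [pow_succ, CfsgLib.Classical.Quad.mul_apply, CfsgLib.Classical.Quad.mul_apply,
            (σother i hi h).1, (σother i hi h).2]; exact ih
      refine S.eq_of_agree _ _ (fun i hi => ?_) (fun i hi => ?_) c d
      · by_cases h : i = 1
        · rw [h]; exact a
        · exact (hoth m i hi h).1
      · by_cases h : i = 1
        · rw [h]; exact b
        · exact (hoth m i hi h).2
    rcases h01 q with h | h
    · have h3 : σ ^ 3 = 1 := key 3 ?_ ?_ ?_ ?_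
      · rw [show (15 : ℕ) = 3 * 5 from rfl, pow_mul, h3, one_pow]
      all_goals simp only [pow_succ, pow_zero, one_mul, CfsgLib.Classical.Quad.mul_apply, σe, σf, σw,
        σw', map_add, map_smul, h, zero_smul, add_zero, zero_add, one_smul]
      all_goals refine (one_smul F _).symm.trans ?_
      all_goals match_scalars <;> grobner
    · have h5 : σ ^ 5 = 1 := key 5 ?_ ?_ ?_ ?_
      · rw [show (15 : ℕ) = 5 * 3 from rfl, pow_mul, h5, one_pow]
      all_goals simp only [pow_succ, pow_zero, one_mul, CfsgLib.Classical.Quad.mul_apply, σe, σf, σw,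
        σw', map_add, map_smul, h, one_smul]
      all_goals refine (one_smul F _).symm.trans ?_
      all_goals match_scalars <;> grobner
  obtain ⟨L, hL⟩ : ∃ L, L = siegel Q (S.e 0) (S.e (S.n - 1)) (S.sing_e 0 h0)
      (S.ee 0 h0 _ hl (by omega)) := ⟨_, rfl⟩
  refine ⟨L * σ, N, mul_mem (hL ▸ siegel_mem _ _) (hσ ▸ mul_mem (siegel_mem _ _) (siegel_mem _ _)), hN,
    fun H ha hNH => ?_⟩
  have hLσ : Commute L σ := by
    refine Commute.symm ?_
    rw [Commute, SemiconjBy, ← mul_inv_eq_iff_eq_mul, hL, siegel_conj]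
    exact siegel_congr _ _ _ _ (σother 0 h0 (by omega)).1 (σother _ hl (by omega)).1
  have hLH : L ∈ H := by
    have h15 := pow_mem ha 15
    rw [hLσ.mul_pow, σ15, mul_one, hL, siegel_pow] at h15
    rw [hL]
    rwa [siegel_congr _ _ (S.sing_e 0 h0) (S.ee 0 h0 _ hl (by omega)) rfl
      (show ((15 : ℕ) : F) • S.e (S.n - 1) = S.e (S.n - 1) by
        rw [show ((15 : ℕ) : F) = 1 by push_cast; linear_combination 7 * h2, one_smul])] at h15
  have hσH : σ ∈ H := by
    have := mul_mem (inv_mem hLH) ha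
    rwa [inv_mul_cancel_left] at this
  have toLine : ∀ u y, polar Q u y = 0 → Mem H u y → y ∈ lineSpace H u := fun u y hp hm =>
    ⟨hp, fun t => by rcases h01 t with rfl | rfl <;> simp [hm, mem_zero]⟩
  obtain ⟨c, hc, hce, hcf⟩ := hcox.wrap
  rw [(h01 c).resolve_left hc, one_smul] at hce
  rw [(h01 c).resolve_left hc, inv_one, one_smul] at hcf
  -- the chain of long root elements
  have M : ∀ t, t + 1 < S.n → S.f t ∈ lineSpace H (S.e (t + 1)) := by
    intro t
    induction t with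
    | zero =>
      intro ht
      have h := lineSpace_map hNH (toLine (S.e 0) (S.e (S.n - 1)) (S.ee 0 h0 _ hl (by omega)) fun _ _ => hL ▸ hLH)
      rwa [hcox.step_e 0 ht, hce] at h
    | succ t ih =>
      intro ht
      have h := lineSpace_map hNH (ih (by omega))
      rwa [hcox.step_f t (by omega), hcox.step_e (t + 1) ht] at h
  have hdown : ∀ d j, j + d = S.n - 1 → 1 ≤ j → S.f j ∈ lineSpace H (S.f 0) := by
    intro d
    induction d with
    | zero =>
      intro j hj _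
      obtain rfl : j = S.n - 1 := by omega
      have h := lineSpace_map hNH (M (S.n - 2) (by omega))
      rwa [hcox.step_f (S.n - 2) (by omega), show S.n - 2 + 1 = S.n - 1 by omega, hce] at h
    | succ d ih =>
      intro j hj hj1
      exact lineSpace_trans (ih (j + 1) (by omega) (by omega)) (Mem.of_lineSpace (M j (by omega)))
        (S.sing_e _ (by omega)) (S.sing_f j (by omega)) (S.ef _ (by omega) _ (by omega) (by omega))
        (S.polar_fe (by omega)) (S.ff _ (by omega) _ (by omega) (by omega))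
        (S.polar_fe' h0 (by omega) (by omega)) (S.ff _ h0 _ (by omega) (by omega))
  have hf1 : S.f 1 ∈ lineSpace H (S.f 0) := hdown (S.n - 2) 1 (by omega) le_rfl
  have he1 : S.e 1 ∈ lineSpace H (S.f 0) :=
    lineSpace_symm (S.sing_e 1 h1) (S.sing_f 0 h0) (M 0 h1)
  have hw'f : S.w' ∈ lineSpace H (S.f 0) := by
    have h := lineSpace_map hσH he1
    rw [(σother 0 h0 (by omega)).2, σe] at h
    have h' := Submodule.sub_mem _ (Submodule.sub_mem _ h (Submodule.smul_mem _ q hf1))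
      (Submodule.smul_mem _ q he1)
    rwa [add_sub_cancel_right, add_sub_cancel_left] at h'
  have hback : ∀ d i, i + d = S.n - 1 → S.w ∈ lineSpace H (S.e i) ∨ S.w' ∈ lineSpace H (S.e i) := by
    intro d
    induction d with
    | zero =>
      intro i hi
      obtain rfl : i = S.n - 1 := by omega
      have h := lineSpace_map (inv_mem hNH) hw'f
      rw [← hce, ← hcox.hw, inv_apply_self, inv_apply_self] at h
      exact Or.inl h
    | succ d ih =>
      intro i hi
      rcases ih (i + 1) (by omega) with h | h <;> have h' := lineSpace_map (inv_mem hNH) h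
      · rw [← hcox.step_e i (by omega), ← hcox.hw', inv_apply_self, inv_apply_self] at h'
        exact Or.inr h'
      · rw [← hcox.step_e i (by omega), ← hcox.hw, inv_apply_self, inv_apply_self] at h'
        exact Or.inl h'
  rcases hback (S.n - 1) 0 (by omega) with h | h
  · exact siegelGroup_le_of_seed hnd hcox hNH h fun _ _ => hL ▸ hLH
  · exact siegelGroup_le_of_seed (S := S.swap) hnd hcox.swap hNH h fun _ _ => hL ▸ hLH

theorem exists_two_generators (hnd : NDPolar Q) (h : Fintype.card F ≠ 2 ∨ 3 ≤ S.n) :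
    ∃ a b : siegelGroup Q, Subgroup.closure ({a, b} : Set (siegelGroup Q)) = ⊤ := by
  obtain ⟨a, b, ha, hb, hgen⟩ : ∃ a b : Orth Q, a ∈ siegelGroup Q ∧ b ∈ siegelGroup Q ∧
      ∀ H : Subgroup (Orth Q), a ∈ H → b ∈ H → siegelGroup Q ≤ H := by
    by_cases hq : Fintype.card F = 2
    · exact S.exists_two_generators_two hnd hq (h.resolve_left fun h' => h' hq)
    · exact S.exists_two_generators_large hnd hq
  refine ⟨⟨a, ha⟩, ⟨b, hb⟩, ?_⟩
  rw [← Subgroup.map_subtype_inj (H := siegelGroup Q)]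
  refine le_antisymm (Subgroup.map_mono le_top) ?_
  rw [← MonoidHom.range_eq_map, Subgroup.range_subtype]
  exact hgen _ ⟨⟨a, ha⟩, Subgroup.subset_closure (Or.inl rfl), rfl⟩
    ⟨⟨b, hb⟩, Subgroup.subset_closure (Or.inr rfl), rfl⟩

end Setup

end CfsgLib.OrthTwoGen
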