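import Cfsg.Agent.Lib.OrthTwoGen.Basic

/-!
`Ω(Q)` of Witt index at least two is generated by two elements: a torus element times a long root element
and a short root element times a Coxeter element.
-/

set_option autoImplicit false
set_option linter.unusedSectionVars false

namespace CfsgLib.OrthTwoGen

open QuadraticMap Module
open CfsgLib.Classical.Quad

variable {F V : Type*} [Field F] [AddCommGroup V] [Module F V]

/-- `n` orthogonal hyperbolic pairs and an anisotropic reflection vector `v` of the complement, whose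
complement is spanned by `w` and its image `w'`. -/
structure Setup (Q : QuadraticForm F V) where
  n : ℕ
  two_le : 2 ≤ n
  e : ℕ → V
  f : ℕ → V
  w : V
  w' : V
  v : V
  sing_e : ∀ i < n, Q (e i) = 0
  sing_f : ∀ i < n, Q (f i) = 0
  pair : ∀ i < n, polar Q (e i) (f i) = 1
  ee : ∀ i < n, ∀ j < n, i ≠ j → polar Q (e i) (e j) = 0
  ff : ∀ i < n, ∀ j < n, i ≠ j → polar Q (f i) (f j) = 0
  ef : ∀ i < n, ∀ j < n, i ≠ j → polar Q (e i) (f j) = 0
  ew : ∀ i < n, polar Q (e i) w = 0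
  fw : ∀ i < n, polar Q (f i) w = 0
  ev : ∀ i < n, polar Q (e i) v = 0
  fv : ∀ i < n, polar Q (f i) v = 0
  hv : Q v ≠ 0
  hw' : w' = (refl Q v).1 w
  hB : polar Q w w' ≠ 0 ∨ ((2 : F) ≠ 0 ∧ polar Q w w ≠ 0)
  span : ∀ x : V, x ∈ Submodule.span F ({y | ∃ i < n, y = e i ∨ y = f i} ∪ {w, w'})

namespace Setup

variable {Q : QuadraticForm F V} (S : Setup Q)

theorem ew' {i : ℕ} (hi : i < S.n) : polar Q (S.e i) S.w' = 0 := by
  rw [S.hw', refl_apply, polar_add_right, polar_smul_right, S.ew i hi, S.ev i hi, smul_zero, add_zero]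

theorem fw' {i : ℕ} (hi : i < S.n) : polar Q (S.f i) S.w' = 0 := by
  rw [S.hw', refl_apply, polar_add_right, polar_smul_right, S.fw i hi, S.fv i hi, smul_zero, add_zero]

theorem refl_w' : (refl Q S.v).1 S.w' = S.w := by
  rw [S.hw', ← CfsgLib.Classical.Quad.mul_apply, refl_mul_self, one_apply]

theorem Q_w' : Q S.w' = Q S.w := by rw [S.hw', orth_Q]

theorem polar_w'_w' : polar Q S.w' S.w' = polar Q S.w S.w := by rw [polar_self', polar_self', S.Q_w']

/-- The same configuration with `w` and `w'` exchanged. -/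
def swap : Setup Q :=
  { S with
    w := S.w'
    w' := S.w
    ew := fun _ hi => S.ew' hi
    fw := fun _ hi => S.fw' hi
    hw' := S.refl_w'.symm
    hB := S.hB.imp (fun h => by rwa [polar_comm]) fun h => ⟨h.1, by rw [S.polar_w'_w']; exact h.2⟩
    span := fun x => by rw [Set.pair_comm]; exact S.span x }

theorem eq_of_agree (g g' : Orth Q) (he : ∀ i < S.n, g.1 (S.e i) = g'.1 (S.e i))
    (hf : ∀ i < S.n, g.1 (S.f i) = g'.1 (S.f i)) (hw : g.1 S.w = g'.1 S.w)
    (hw' : g.1 S.w' = g'.1 S.w') : g = g' := by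
  refine orth_ext fun x => ?_
  induction S.span x using Submodule.span_induction with
  | mem y hy =>
    rcases hy with ⟨i, hi, rfl | rfl⟩ | rfl | rfl
    exacts [he i hi, hf i hi, hw, hw']
  | zero => simp
  | add a b _ _ ha hb => simp [ha, hb]
  | smul c a _ ha => simp [ha]

theorem e_ne_zero {i : ℕ} (hi : i < S.n) : S.e i ≠ 0 := fun h => by
  have := S.pair i hi
  rw [h, polar_zero_left] at this
  exact zero_ne_one this

theorem polar_fe {i : ℕ} (hi : i < S.n) : polar Q (S.f i) (S.e i) = 1 := by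
  rw [polar_comm]; exact S.pair i hi

theorem polar_fe' {i j : ℕ} (hi : i < S.n) (hj : j < S.n) (h : i ≠ j) :
    polar Q (S.f i) (S.e j) = 0 := by
  rw [polar_comm]; exact S.ef j hj i hi (Ne.symm h)

theorem polar_e_self {i : ℕ} (hi : i < S.n) : polar Q (S.e i) (S.e i) = 0 :=
  polar_singular_self (S.sing_e i hi)

theorem polar_f_self {i : ℕ} (hi : i < S.n) : polar Q (S.f i) (S.f i) = 0 :=
  polar_singular_self (S.sing_f i hi)

/-! ### Weyl elements -/

/-- A signed transposition of two pairs. -/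
theorem exists_transposition {i j : ℕ} (hi : i < S.n) (hj : j < S.n) (hij : i ≠ j) {a : F} (ha : a ≠ 0) :
    ∃ g ∈ siegelGroup Q, g.1 (S.e i) = a⁻¹ • S.e j ∧ g.1 (S.e j) = (-a) • S.e i ∧
      g.1 (S.f i) = a • S.f j ∧ g.1 (S.f j) = (-a⁻¹) • S.f i ∧
      ∀ x, polar Q x (S.e i) = 0 → polar Q x (S.e j) = 0 → polar Q x (S.f i) = 0 →
        polar Q x (S.f j) = 0 → g.1 x = x := by
  have h1 : polar Q (S.e i) (a • S.f j) = 0 := by simp [S.ef i hi j hj hij]
  have h2 : polar Q (S.e j) ((-a⁻¹) • S.f i) = 0 := by simp [S.ef j hj i hi hij.symm]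
  refine ⟨siegel Q (S.e i) _ (S.sing_e i hi) h1 * siegel Q (S.e j) _ (S.sing_e j hj) h2 *
    siegel Q (S.e i) _ (S.sing_e i hi) h1,
    mul_mem (mul_mem (siegel_mem _ _) (siegel_mem _ _)) (siegel_mem _ _), ?_, ?_, ?_, ?_, ?_⟩
  all_goals try intro x x1 x2 x3 x4
  all_goals simp only [CfsgLib.Classical.Quad.mul_apply, siegel_apply, QuadraticMap.map_smul,
    S.sing_f i hi, S.sing_f j hj, polar_add_left, polar_smul_left, polar_smul_right, smul_eq_mul,
    S.pair i hi, S.pair j hj, S.polar_fe hi, S.polar_fe hj, S.polar_fe' hi hj hij,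
    S.polar_fe' hj hi hij.symm, S.ef i hi j hj hij, S.ef j hj i hi hij.symm, S.ee i hi j hj hij,
    S.ee j hj i hi hij.symm, S.ff i hi j hj hij, S.ff j hj i hi hij.symm, S.polar_e_self hi,
    S.polar_e_self hj, S.polar_f_self hi, S.polar_f_self hj, *]
  all_goals match_scalars <;> field_simp <;> ring

/-- The short Weyl element of the first pair. -/
theorem exists_short :
    ∃ g ∈ siegelGroup Q, g.1 (S.e 0) = (-(Q S.v)⁻¹) • S.f 0 ∧ g.1 (S.f 0) = (-Q S.v) • S.e 0 ∧
      ∀ x, polar Q x (S.e 0) = 0 → polar Q x (S.f 0) = 0 → g.1 x = (refl Q S.v).1 x := by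
  have h0 : 0 < S.n := by have := S.two_le; omega
  have hc := S.hv
  have h1 : polar Q (S.e 0) S.v = 0 := S.ev 0 h0
  have h2 : polar Q (S.f 0) ((Q S.v)⁻¹ • S.v) = 0 := by simp [S.fv 0 h0]
  refine ⟨siegel Q (S.e 0) _ (S.sing_e 0 h0) h1 * siegel Q (S.f 0) _ (S.sing_f 0 h0) h2 *
    siegel Q (S.e 0) _ (S.sing_e 0 h0) h1,
    mul_mem (mul_mem (siegel_mem _ _) (siegel_mem _ _)) (siegel_mem _ _), ?_, ?_, ?_⟩
  all_goals try intro x x1 x2
  all_goals simp only [CfsgLib.Classical.Quad.mul_apply, siegel_apply, refl_apply,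
    QuadraticMap.map_smul, polar_add_left, polar_smul_left, polar_smul_right, smul_eq_mul,
    S.pair 0 h0, S.polar_fe h0, S.polar_e_self h0, S.polar_f_self h0, S.ev 0 h0, S.fv 0 h0,
    polar_comm Q S.v (S.e 0), polar_comm Q S.v (S.f 0), polar_self' S.v, *]
  all_goals match_scalars <;> field_simp <;> ring

/-- A Coxeter element. -/
structure IsCox (N : Orth Q) : Prop where
  step_e : ∀ i, i + 1 < S.n → N.1 (S.e i) = S.e (i + 1)
  step_f : ∀ i, i + 1 < S.n → N.1 (S.f i) = S.f (i + 1)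
  wrap : ∃ c : F, c ≠ 0 ∧ N.1 (S.e (S.n - 1)) = c • S.f 0 ∧ N.1 (S.f (S.n - 1)) = c⁻¹ • S.e 0
  hw : N.1 S.w = S.w'
  hw' : N.1 S.w' = S.w

theorem IsCox.swap {N : Orth Q} (h : S.IsCox N) : S.swap.IsCox N :=
  ⟨h.step_e, h.step_f, h.wrap, h.hw', h.hw⟩

theorem exists_cox : ∃ N ∈ siegelGroup Q, S.IsCox N := by
  have hn := S.two_le
  have chain : ∀ m, m < S.n → ∃ C ∈ siegelGroup Q,
      (∀ i, i < m → C.1 (S.e i) = S.e (i + 1) ∧ C.1 (S.f i) = S.f (i + 1)) ∧
      (C.1 (S.e m) = ((-1 : F) ^ m) • S.e 0 ∧ C.1 (S.f m) = ((-1 : F) ^ m) • S.f 0) ∧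
      ∀ x, (∀ i ≤ m, polar Q x (S.e i) = 0 ∧ polar Q x (S.f i) = 0) → C.1 x = x := by
    intro m
    induction m with
    | zero => exact fun _ => ⟨1, one_mem _, fun i hi => absurd hi (by omega), by simp, fun x _ => rfl⟩
    | succ m ih =>
      intro hm
      obtain ⟨C, hC, hlow, ⟨hce, hcf⟩, hfix⟩ := ih (by omega)
      obtain ⟨P, hP, pe, pe', pf, pf', pfix⟩ :=
        S.exists_transposition (i := m) (j := m + 1) (by omega) hm (by omega) (one_ne_zero (α := F))
      have hCe : C.1 (S.e (m + 1)) = S.e (m + 1) := hfix _ fun i hi =>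
        ⟨S.ee _ hm _ (by omega) (by omega), S.ef _ hm _ (by omega) (by omega)⟩
      have hCf : C.1 (S.f (m + 1)) = S.f (m + 1) := hfix _ fun i hi =>
        ⟨S.polar_fe' hm (by omega) (by omega), S.ff _ hm _ (by omega) (by omega)⟩
      refine ⟨C * P, mul_mem hC hP, fun i hi => ?_, ⟨?_, ?_⟩, fun x hx => ?_⟩
      · rcases Nat.lt_succ_iff_lt_or_eq.1 hi with h | rfl
        · rw [CfsgLib.Classical.Quad.mul_apply, CfsgLib.Classical.Quad.mul_apply,
            pfix _ (S.ee _ (by omega) _ (by omega) (by omega)) (S.ee _ (by omega) _ hm (by omega))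
              (S.ef _ (by omega) _ (by omega) (by omega)) (S.ef _ (by omega) _ hm (by omega)),
            pfix _ (S.polar_fe' (by omega) (by omega) (by omega)) (S.polar_fe' (by omega) hm (by omega))
              (S.ff _ (by omega) _ (by omega) (by omega)) (S.ff _ (by omega) _ hm (by omega))]
          exact hlow i h
        · simp [pe, pf, hCe, hCf]
      · simp [pe', hce, pow_succ]
      · simp [pf', hcf, pow_succ]
      · rw [CfsgLib.Classical.Quad.mul_apply, pfix x (hx m (by omega)).1 (hx _ le_rfl).1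
          (hx m (by omega)).2 (hx _ le_rfl).2]
        exact hfix x fun i hi => hx i (by omega)
  obtain ⟨C, hC, hlow, ⟨hce, hcf⟩, hfix⟩ := chain (S.n - 1) (by omega)
  obtain ⟨N₀, hN₀, n0e, n0f, n0fix⟩ := S.exists_short
  have h0 : 0 < S.n := by omega
  have hfixe : ∀ i, i + 1 < S.n → N₀.1 (S.e (i + 1)) = S.e (i + 1) := fun i hi => by
    rw [n0fix _ (S.ee _ hi _ h0 (by omega)) (S.ef _ hi _ h0 (by omega)), refl_fix (S.ev _ hi)]
  have hfixf : ∀ i, i + 1 < S.n → N₀.1 (S.f (i + 1)) = S.f (i + 1) := fun i hi => by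
    rw [n0fix _ (S.polar_fe' hi h0 (by omega)) (S.ff _ hi _ h0 (by omega)), refl_fix (S.fv _ hi)]
  have hCw : C.1 S.w = S.w := hfix _ fun i hi =>
    ⟨by rw [polar_comm]; exact S.ew i (by omega), by rw [polar_comm]; exact S.fw i (by omega)⟩
  have hCw' : C.1 S.w' = S.w' := hfix _ fun i hi =>
    ⟨by rw [polar_comm]; exact S.ew' (by omega), by rw [polar_comm]; exact S.fw' (by omega)⟩
  refine ⟨N₀ * C, mul_mem hN₀ hC, ⟨fun i hi => ?_, fun i hi => ?_,
    ⟨(-1) ^ (S.n - 1) * -(Q S.v)⁻¹, mul_ne_zero (pow_ne_zero _ (by norm_num)) (by simp [S.hv]), ?_, ?_⟩,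
    ?_, ?_⟩⟩
  · rw [CfsgLib.Classical.Quad.mul_apply, (hlow i (by omega)).1, hfixe i hi]
  · rw [CfsgLib.Classical.Quad.mul_apply, (hlow i (by omega)).2, hfixf i hi]
  · simp [hce, n0e, smul_smul]
  · simp [hcf, n0f, smul_smul, ← inv_pow, mul_comm]
  · rw [CfsgLib.Classical.Quad.mul_apply, hCw, n0fix _ (by rw [polar_comm]; exact S.ew 0 h0)
      (by rw [polar_comm]; exact S.fw 0 h0), ← S.hw']
  · rw [CfsgLib.Classical.Quad.mul_apply, hCw', n0fix _ (by rw [polar_comm]; exact S.ew' h0)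
      (by rw [polar_comm]; exact S.fw' h0), S.refl_w']

/-! ### From a seed to everything -/

variable {S} {H : Subgroup (Orth Q)} {N : Orth Q}

/-- A property carried along the orbit of the Coxeter element. -/
theorem orbit (hN : S.IsCox N) {P : V → Prop} (h0 : P (S.e 0))
    (hstep : ∀ u, P u → P (N.1 u)) (hsm : ∀ (c : F) u, c ≠ 0 → P u → P (c • u)) :
    ∀ i < S.n, P (S.e i) ∧ P (S.f i) := by
  have he : ∀ i < S.n, P (S.e i) := by
    intro i
    induction i with
    | zero => exact fun _ => h0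
    | succ i ih => intro hi; rw [← hN.step_e i hi]; exact hstep _ (ih (by omega))
  obtain ⟨c, hc, hce, -⟩ := hN.wrap
  have hn := S.two_le
  have hf : ∀ i < S.n, P (S.f i) := by
    intro i
    induction i with
    | zero =>
      intro _
      have := hsm c⁻¹ _ (inv_ne_zero hc) (hstep _ (he (S.n - 1) (by omega)))
      rwa [hce, inv_smul_smul₀ hc] at this
    | succ i ih => intro hi; rw [← hN.step_f i hi]; exact hstep _ (ih (by omega))
  exact fun i hi => ⟨he i hi, hf i hi⟩

theorem siegelGroup_le_of_seed [FiniteDimensional F V] (hnd : NDPolar Q) (hN : S.IsCox N) (hNH : N ∈ H)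
    (hseed : S.w ∈ lineSpace H (S.e 0)) (hlong : Mem H (S.e 0) (S.e (S.n - 1))) :
    siegelGroup Q ≤ H := by
  have hn := S.two_le
  have h0 : 0 < S.n := by omega
  have hl : S.n - 1 < S.n := by omega
  obtain ⟨c, hc, hce, hcf⟩ := hN.wrap
  -- backwards along the Coxeter element
  have hfl : S.w' ∈ lineSpace H (S.f (S.n - 1)) := by
    have h1 := lineSpace_map (inv_mem hNH) (lineSpace_smul (c := c⁻¹) (inv_ne_zero hc) hseed)
    rwa [← hcf, ← hN.hw', inv_apply_self, inv_apply_self] at h1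
  -- the single long element moved by the short group at the opposite vector
  have hmove : ∀ t : F, Mem H (S.e 0) (t • S.w' + (-(t * t * Q S.w)) • S.f (S.n - 1)) := by
    intro t
    have h1 : polar Q (S.f (S.n - 1)) (t • S.w') = 0 := by simp [S.fw' hl]
    have h2 := hlong.map (hfl.2 t (S.sing_f _ hl) h1)
    rw [siegel_fix (S.sing_f _ hl) h1 (S.ef 0 h0 _ hl (by omega)) (by simp [S.ew' h0]), siegel_apply,
      S.pair _ hl, polar_smul_right, S.ew' hl, smul_zero, QuadraticMap.map_smul, S.Q_w', smul_eq_mul,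
      one_smul, mul_one, neg_zero, zero_sub] at h2
    have h3 := h2.sub hlong (by simp [S.ee 0 h0 _ hl (by omega), S.ew' h0, S.ef 0 h0 _ hl (by omega)])
      (S.ee 0 h0 _ hl (by omega))
    rwa [add_assoc, add_sub_cancel_left] at h3
  have hw'0 : S.w' ∈ lineSpace H (S.e 0) := by
    refine ⟨S.ew' h0, fun t => ?_⟩
    by_cases h2 : (2 : F) = 0
    · have hB : polar Q S.w S.w' ≠ 0 := S.hB.resolve_right fun h => h.1 h2
      have hfe : S.f (S.n - 1) ∈ lineSpace H (S.e 0) :=
        lineSpace_of_comm hfl hseed (S.sing_f _ hl) (S.polar_fe' hl h0 (by omega)) (S.ew' h0)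
          (S.fw _ hl) hB
      have h3 := (hmove t).sub (hfe.2 (-(t * t * Q S.w)))
        (by simp [S.ew' h0, S.ef 0 h0 _ hl (by omega)]) (by simp [S.ef 0 h0 _ hl (by omega)])
      rwa [add_sub_cancel_right] at h3
    · have h3 := (hmove (t / 2)).sub (hmove (-(t / 2)))
        (by simp [S.ew' h0, S.ef 0 h0 _ hl (by omega)]) (by simp [S.ew' h0, S.ef 0 h0 _ hl (by omega)])
      convert h3 using 1
      match_scalars <;> field_simp <;> ring
  have hboth := orbit hN (P := fun u => S.w ∈ lineSpace H u ∧ S.w' ∈ lineSpace H u) ⟨hseed, hw'0⟩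
    (fun u hu => ⟨by rw [← hN.hw']; exact lineSpace_map hNH hu.2,
      by rw [← hN.hw]; exact lineSpace_map hNH hu.1⟩)
    (fun c u hc hu => ⟨lineSpace_smul hc hu.1, lineSpace_smul hc hu.2⟩)
  -- all long root groups
  have long : ∀ u u', (S.w ∈ lineSpace H u ∧ S.w' ∈ lineSpace H u) →
      (S.w ∈ lineSpace H u' ∧ S.w' ∈ lineSpace H u') → Q u = 0 → polar Q u u' = 0 → u ∈ lineSpace H u' := by
    intro u u' hu hu' hQu h
    rcases S.hB with hB | ⟨-, hB⟩
    · exact lineSpace_of_comm hu.2 hu'.1 hQu h hu'.2.1 hu.1.1 hB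
    · exact lineSpace_of_comm hu.1 hu'.1 hQu h hu'.1.1 hu.1.1 hB
  have full : ∀ j < S.n, ∀ (g : V), g = S.e j ∨ g = S.f j →
      (S.w ∈ lineSpace H g ∧ S.w' ∈ lineSpace H g) ∧ Q g = 0 := by
    rintro j hj g (rfl | rfl)
    · exact ⟨(hboth j hj).1, S.sing_e j hj⟩
    · exact ⟨(hboth j hj).2, S.sing_f j hj⟩
  have hperp : ∀ u p, (u = S.e 0 ∧ p = S.f 0) ∨ (u = S.f 0 ∧ p = S.e 0) →
      ∀ x, polar Q u x = 0 → x ∈ lineSpace H u := by
    intro u p hup
    obtain ⟨hu, hQu⟩ : (S.w ∈ lineSpace H u ∧ S.w' ∈ lineSpace H u) ∧ Q u = 0 := by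
      rcases hup with ⟨rfl, -⟩ | ⟨rfl, -⟩
      exacts [full 0 h0 _ (Or.inl rfl), full 0 h0 _ (Or.inr rfl)]
    have hpu : polar Q u p = 1 := by
      rcases hup with ⟨rfl, rfl⟩ | ⟨rfl, rfl⟩
      exacts [S.pair 0 h0, S.polar_fe h0]
    have hx : ∀ y, y - polar Q u y • p ∈ lineSpace H u := by
      intro y
      induction S.span y using Submodule.span_induction with
      | mem y hy =>
        rcases hy with ⟨j, hj, hjy⟩ | rfl | rfl
        · by_cases hh : polar Q u y = 0
          · rw [hh, zero_smul, sub_zero]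
            obtain ⟨h1, h2⟩ := full j hj y hjy
            exact long y u h1 hu h2 (by rwa [polar_comm])
          · have : y = p := by
              rcases hup with ⟨rfl, rfl⟩ | ⟨rfl, rfl⟩ <;> rcases hjy with rfl | rfl <;>
                by_cases hj0 : j = 0
              all_goals first
                | (subst hj0; rfl)
                | (subst hj0; exact absurd (S.polar_e_self h0) hh)
                | (subst hj0; exact absurd (S.polar_f_self h0) hh)
                | exact absurd (S.ee 0 h0 j hj (Ne.symm hj0)) hh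
                | exact absurd (S.ff 0 h0 j hj (Ne.symm hj0)) hh
                | exact absurd (S.ef 0 h0 j hj (Ne.symm hj0)) hh
                | exact absurd (S.polar_fe' h0 hj (Ne.symm hj0)) hh
            rw [this, hpu, one_smul, sub_self]
            exact zero_mem _
        · rw [hu.1.1, zero_smul, sub_zero]; exact hu.1
        · rw [hu.2.1, zero_smul, sub_zero]; exact hu.2
      | zero => simp
      | add a b _ _ ha hb =>
        rw [polar_add_right, add_smul, add_sub_add_comm]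
        exact add_mem ha hb
      | smul c a _ ha =>
        rw [polar_smul_right, smul_eq_mul, mul_smul, ← smul_sub]
        exact Submodule.smul_mem _ c ha
    intro x hux
    simpa [hux] using hx x
  exact siegelGroup_le hnd ⟨S.sing_e 0 h0, S.sing_f 0 h0, S.pair 0 h0⟩
    ⟨S.v, S.ev 0 h0, S.fv 0 h0, S.hv⟩ (hperp _ _ (Or.inl ⟨rfl, rfl⟩)) (hperp _ _ (Or.inr ⟨rfl, rfl⟩))

end Setup

end CfsgLib.OrthTwoGen
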