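import Cfsg.Agent.Lib.OrthTwoGen.Gen
import Cfsg.Agent.Lib.Classical.Quad.Std

/-!
The standard orthogonal groups are two-generated.
-/

set_option autoImplicit false

namespace CfsgLib.OrthTwoGen

open QuadraticMap Module
open CfsgLib.Classical.Quad

variable {F W : Type*} [Field F] [AddCommGroup W] [Module F W]

/-- The `i`-th coordinate vector, indexed by `ℕ`. -/
def unitVec (k i : ℕ) : Fin k → F := fun j => if j.1 = i then 1 else 0

theorem unitVec_eq {k i : ℕ} (hi : i < k) : unitVec (F := F) k i = Pi.single ⟨i, hi⟩ 1 := by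
  funext j
  simp [unitVec, Pi.single_apply, Fin.ext_iff]

/-- A hyperbolic extension of a kernel spanned by `w` and its reflection in `v`. -/
def hypSetup {R : QuadraticForm F W} (k : ℕ) (hk : 2 ≤ k) (w v : W) (hv : R v ≠ 0)
    (w' : W) (hw : w' = w + (-(polar R w v / R v)) • v)
    (hB : polar R w w' ≠ 0 ∨ ((2 : F) ≠ 0 ∧ polar R w w ≠ 0))
    (hspan : ∀ z : W, ∃ c d : F, z = c • w + d • w') : Setup (hypForm k R) where
  n := k
  two_le := hk
  e i := ((unitVec k i, 0), 0)
  f i := ((0, unitVec k i), 0)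
  w := (0, w)
  w' := (0, w')
  v := (0, v)
  sing_e i hi := by simp [hypForm_apply]
  sing_f i hi := by simp [hypForm_apply]
  pair i hi := by simp [polar_hypForm, unitVec_eq hi, Pi.single_apply, polar_zero_right]
  ee i hi j hj _ := by simp [polar_hypForm, polar_zero_right]
  ff i hi j hj _ := by simp [polar_hypForm, polar_zero_right]
  ef i hi j hj h := by
    simp [polar_hypForm, unitVec_eq hi, unitVec_eq hj, Pi.single_apply, polar_zero_right, h, Ne.symm h]
  ew i hi := by simp [polar_hypForm, polar_zero_left]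
  fw i hi := by simp [polar_hypForm, polar_zero_left]
  ev i hi := by simp [polar_hypForm, polar_zero_left]
  fv i hi := by simp [polar_hypForm, polar_zero_left]
  hv := by simpa [hypForm_apply] using hv
  hw' := by simp [refl_apply, polar_hypForm, hypForm_apply, hw, Prod.ext_iff]
  hB := by simpa [polar_hypForm, hypForm_apply] using hB
  span x := by
    obtain ⟨⟨a, b⟩, z⟩ := x
    obtain ⟨c, d, rfl⟩ := hspan z
    have hx : (((a, b), c • w + d • w') : ((Fin k → F) × (Fin k → F)) × W) =
        (∑ i : Fin k, a i • ((unitVec k i, 0), (0 : W))) + (∑ i : Fin k, b i • ((0, unitVec k i), (0 : W))) +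
          c • (0, w) + d • (0, w') := by
      refine Prod.ext (Prod.ext (funext fun j => ?_) (funext fun j => ?_)) ?_ <;>
        simp [Prod.fst_sum, Prod.snd_sum, unitVec, Finset.sum_apply, Fin.val_inj]
    rw [hx]
    refine Submodule.add_mem _ (Submodule.add_mem _ (Submodule.add_mem _ ?_ ?_) ?_) ?_
    · exact Submodule.sum_mem _ fun i _ =>
        Submodule.smul_mem _ _ (Submodule.subset_span (Or.inl ⟨i, i.2, Or.inl rfl⟩))
    · exact Submodule.sum_mem _ fun i _ =>
        Submodule.smul_mem _ _ (Submodule.subset_span (Or.inl ⟨i, i.2, Or.inr rfl⟩))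
    · exact Submodule.smul_mem _ _ (Submodule.subset_span (Or.inr (Or.inl rfl)))
    · exact Submodule.smul_mem _ _ (Submodule.subset_span (Or.inr (Or.inr rfl)))

theorem exists_two_generators_pomega [Fintype F] {ι : Type} [Fintype ι] [DecidableEq ι]
    {Qf : (ι → F) → F} {V : Type*} [AddCommGroup V] [Module F V] [FiniteDimensional F V]
    {Q : QuadraticForm F V} (e : (ι → F) ≃ₗ[F] V) (he : ∀ v, Q (e v) = Qf v) (hnd : NDPolar Q)
    (P : Frame Q) (S : Setup Q) (h : Fintype.card F ≠ 2 ∨ 3 ≤ S.n) :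
    ∃ a b : Cfsg.POmega F Qf, Subgroup.closure ({a, b} : Set (Cfsg.POmega F Qf)) = ⊤ := by
  obtain ⟨a, b, hab⟩ := S.exists_two_generators hnd h
  let φ : siegelGroup Q →* Cfsg.POmega F Qf :=
    (pomegaEquiv e he hnd P).symm.toMonoidHom.comp (QuotientGroup.mk' _)
  refine ⟨φ a, φ b, ?_⟩
  rw [← Set.image_pair, ← MonoidHom.map_closure, hab]
  exact Subgroup.map_top_of_surjective _
    ((pomegaEquiv e he hnd P).symm.surjective.comp (QuotientGroup.mk'_surjective _))

theorem ndPolar_binForm_of_disc {a b : F} (hd : 4 * b - a ^ 2 ≠ 0) : NDPolar (binForm a b) := by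
  intro u hu
  have h0 := hu ![1, 0]
  have h1 := hu ![0, 1]
  simp [polar_binForm] at h0 h1
  have e0 : (4 * b - a ^ 2) * u 0 = 0 := by linear_combination 2 * b * h0 - a * h1
  have e1 : (4 * b - a ^ 2) * u 1 = 0 := by linear_combination -a * h0 + 2 * h1
  funext i
  fin_cases i
  · exact (mul_eq_zero.1 e0).resolve_left hd
  · exact (mul_eq_zero.1 e1).resolve_left hd

/-- The set-up of a hyperbolic extension of a binary form. -/
def binSetup (a b t : F) (k : ℕ) (hk : 2 ≤ k) (ht : 2 * t + a ≠ 0)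
    (hB : -(2 * t ^ 2) - 2 * a * t - a ^ 2 + 2 * b ≠ 0 ∨
      ((2 : F) ≠ 0 ∧ 2 * (t ^ 2 + a * t + b) ≠ 0)) : Setup (hypForm k (binForm a b)) :=
  hypSetup k hk ![t, 1] ![1, 0] (by simp [binForm_apply]) ![-t - a, 1]
    (by
      funext i
      fin_cases i <;> simp [polar_binForm, binForm_apply]
      ring)
    (by
      refine hB.imp (fun h => ?_) fun h => ⟨h.1, ?_⟩
      · rw [polar_binForm]
        convert h using 1
        simp
        ring
      · rw [polar_binForm]
        convert h.2 using 1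
        simp
        ring)
    fun z => ⟨(z 0 + (t + a) * z 1) / (2 * t + a), z 1 - (z 0 + (t + a) * z 1) / (2 * t + a), by
      funext i
      fin_cases i
      · have e : (z 0 + (t + a) * z 1) / (2 * t + a) * (2 * t + a) = z 0 + (t + a) * z 1 :=
          div_mul_cancel₀ _ ht
        simp
        linear_combination -e
      · simp⟩

/-- Coordinates for `quadFormPlus` with the last pair as a binary form. -/
def plusBinEquiv (k : ℕ) (F : Type*) [Field F] :
    (Fin (k + 1) ⊕ Fin (k + 1) → F) ≃ₗ[F] ((Fin k → F) × (Fin k → F)) × (Fin 2 → F) where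
  toFun v := ((fun i => v (.inl i.castSucc), fun i => v (.inr i.castSucc)),
    ![v (.inl (Fin.last k)), v (.inr (Fin.last k)) - v (.inl (Fin.last k))])
  invFun v := Sum.elim (Fin.snoc v.1.1 (v.2 0)) (Fin.snoc v.1.2 (v.2 1 + v.2 0))
  left_inv v := by
    funext i
    rcases i with i | i <;> refine Fin.lastCases ?_ (fun j => ?_) i <;> simp
  right_inv v := by
    refine Prod.ext (Prod.ext (funext fun j => ?_) (funext fun j => ?_)) (funext fun j => ?_)
    · simp
    · simp
    · fin_cases j <;> simp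
  map_add' x y := by
    refine Prod.ext (Prod.ext rfl rfl) (funext fun j => ?_)
    fin_cases j <;> simp
    ring
  map_smul' c x := by
    refine Prod.ext (Prod.ext rfl rfl) (funext fun j => ?_)
    fin_cases j <;> simp
    ring

theorem plusBinEquiv_spec (k : ℕ) (v : Fin (k + 1) ⊕ Fin (k + 1) → F) :
    hypForm k (binForm (1 : F) 0) (plusBinEquiv k F v) = Cfsg.quadFormPlus (k + 1) F v := by
  rw [hypForm_apply, binForm_apply, Cfsg.quadFormPlus, Fin.sum_univ_castSucc]
  simp [plusBinEquiv]
  ring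

variable [Fintype F]

theorem exists_two_generators_odd (hodd : Odd (Fintype.card F)) {m : ℕ} (hm : 2 ≤ m) :
    ∃ a b : Cfsg.POmega F (Cfsg.quadFormOdd m F),
      Subgroup.closure ({a, b} : Set (Cfsg.POmega F (Cfsg.quadFormOdd m F))) = ⊤ := by
  have h2 : (2 : F) ≠ 0 := two_ne_zero_iff_odd.2 (by rwa [Nat.card_eq_fintype_card])
  refine exists_two_generators_pomega (oddEquiv m F) (oddEquiv_spec m)
    (ndPolar_hypForm (ndPolar_lineForm h2) m) (hypFrameKernel hm 1 (by simp [lineForm_apply]))
    (hypSetup m hm 1 1 (by simp [lineForm_apply]) (-1)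
      (by funext i; simp [polar_lineForm, lineForm_apply]; ring)
      (Or.inr ⟨h2, by simp [lineForm_apply, h2]⟩)
      fun z => ⟨z (), 0, by funext i; simp⟩)
    (Or.inl fun h => ?_)
  rw [h] at hodd
  exact absurd hodd (by decide)

theorem exists_two_generators_plus {m : ℕ} (hm : 4 ≤ m) :
    ∃ a b : Cfsg.POmega F (Cfsg.quadFormPlus m F),
      Subgroup.closure ({a, b} : Set (Cfsg.POmega F (Cfsg.quadFormPlus m F))) = ⊤ := by
  obtain ⟨k, rfl⟩ : ∃ k, m = k + 1 := ⟨m - 1, by omega⟩
  exact exists_two_generators_pomega (plusBinEquiv k F) (plusBinEquiv_spec k)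
    (ndPolar_hypForm (ndPolar_binForm_of_disc (by simp)) k)
    (hypFrameKernel (R := binForm (1 : F) 0) (by omega) (![1, 0] : Fin 2 → F) (by simp [binForm_apply]))
    (binSetup 1 0 0 k (by omega) (by simp) (Or.inl (by simp)))
    (Or.inr (show 3 ≤ k by omega))

theorem exists_two_generators_minus {a b : F} (hab : IsAniso a b) {k : ℕ} (hk : 3 ≤ k) :
    ∃ g h : Cfsg.POmega F (Cfsg.quadFormMinus k F a b),
      Subgroup.closure ({g, h} : Set (Cfsg.POmega F (Cfsg.quadFormMinus k F a b))) = ⊤ := by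
  have hd := hab.disc
  have hb : b ≠ 0 := fun h => one_ne_zero (hab 0 1 (by rw [h]; ring)).2
  obtain ⟨t, ht, hB⟩ : ∃ t : F, 2 * t + a ≠ 0 ∧ (-(2 * t ^ 2) - 2 * a * t - a ^ 2 + 2 * b ≠ 0 ∨
      ((2 : F) ≠ 0 ∧ 2 * (t ^ 2 + a * t + b) ≠ 0)) := by
    by_cases ha : a = 0
    · have h2 : (2 : F) ≠ 0 := fun h => hd (by linear_combination 2 * b * h - a * ha)
      refine ⟨1, by simp [ha, h2], Or.inr ⟨h2, mul_ne_zero h2 fun h => ?_⟩⟩
      exact one_ne_zero (hab 1 1 (by linear_combination h)).2
    · refine ⟨0, by simpa using ha, ?_⟩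
      by_cases h2 : (2 : F) = 0
      · exact Or.inl (by simp [h2, ha])
      · exact Or.inr ⟨h2, by simpa using mul_ne_zero h2 hb⟩
  exact exists_two_generators_pomega (minusEquiv k F) (minusEquiv_spec k a b)
    (ndPolar_hypForm (ndPolar_binForm hab) k)
    (hypFrameKernel (R := binForm a b) (by omega) ![1, 0] (by simp [binForm_apply]))
    (binSetup a b t k (by omega) ht hB) (Or.inr hk)

end CfsgLib.OrthTwoGen
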